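import Groth.Prelude.Def_Curves
import Mathlib

/-!
# Absolutely integrally closed rings: units lifting idempotents, interpolation
-/

set_option autoImplicit false
set_option linter.all false

universe u

open Polynomial

noncomputable section

namespace GrothLib.AicH2

variable {A : Type u} [CommRing A]

theorem isAIC_of_surjective {B : Type u} [CommRing B] (hA : Curves.IsAIC A) (f : A →+* B)
    (hf : Function.Surjective f) : Curves.IsAIC B := by
  rcases subsingleton_or_nontrivial B with hB | hB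
  · exact fun g _ _ => ⟨0, Subsingleton.elim _ _⟩
  intro g hg hd
  obtain ⟨q, hq, hdeg, hm⟩ := Polynomial.lifts_and_degree_eq_and_monic
    ((Polynomial.mem_lifts g).2 (Polynomial.map_surjective f hf g)) hg
  obtain ⟨r, hr⟩ := hA q hm (by rw [natDegree_eq_of_degree_eq hdeg]; exact hd)
  exact ⟨f r, by rw [← hq, eval_map, eval₂_at_apply, hr, map_zero]⟩

theorem exists_cyclo (hA : Curves.IsAIC A) (p : ℕ) [hp : Fact p.Prime] :
    ∃ η : A, ∑ i ∈ Finset.range p, η ^ i = 0 := by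
  nontriviality A
  have h2 := hp.out.two_le
  have hm : (X ^ (p - 1) + ∑ i : Fin (p - 1), C (1 : A) * X ^ (i : ℕ)).Monic :=
    monic_X_pow_add (degree_sum_fin_lt _)
  have hd : 0 < (X ^ (p - 1) + ∑ i : Fin (p - 1), C (1 : A) * X ^ (i : ℕ)).natDegree := by
    rw [natDegree_eq_of_degree_eq_some (n := p - 1)]
    · omega
    rw [degree_add_eq_left_of_degree_lt] <;> rw [degree_X_pow]
    exact degree_sum_fin_lt _
  obtain ⟨η, hη⟩ := hA _ hm hd
  refine ⟨η, ?_⟩
  rw [show p = p - 1 + 1 by omega, Finset.sum_range_succ, add_comm]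
  simpa [eval_finset_sum, Fin.sum_univ_eq_sum_range (fun i => η ^ i)] using hη

/-- Partial sums of powers. -/
def S (ζ : A) (n : ℕ) : A := ∑ i ∈ Finset.range n, ζ ^ i

theorem S_add (ζ : A) (m n : ℕ) : S ζ (m + n) = S ζ m + ζ ^ m * S ζ n := by
  rw [S, S, S, Finset.sum_range_add, Finset.mul_sum]
  simp [pow_add]

theorem pow_eq_one {ζ : A} {p : ℕ} (h : S ζ p = 0) : ζ ^ p = 1 := by
  have := geom_sum_mul ζ p
  rw [show (∑ i ∈ Finset.range p, ζ ^ i) = 0 from h, zero_mul] at this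
  exact sub_eq_zero.1 this.symm

theorem S_mod {ζ : A} {p : ℕ} (h : S ζ p = 0) (n : ℕ) : S ζ (n % p) = S ζ n := by
  have hq : ∀ q, S ζ (p * q) = 0 := fun q => by
    induction q with
    | zero => simp [S]
    | succ q ih => rw [Nat.mul_succ, S_add, ih, h, mul_zero, add_zero]
  conv_rhs => rw [← Nat.div_add_mod n p]
  rw [S_add, hq, pow_mul, pow_eq_one h, one_pow, one_mul, zero_add]

theorem isUnit_S {ζ : A} {p : ℕ} [hp : Fact p.Prime] (h : S ζ p = 0) (m : ℕ) (hm : ¬ p ∣ m) :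
    IsUnit (S ζ m) := by
  obtain ⟨m', hm'⟩ : ∃ m' : ℕ, (m * m') % p = 1 := by
    refine ⟨((m : ZMod p)⁻¹).val, ?_⟩
    have hne : (m : ZMod p) ≠ 0 := fun e => hm ((ZMod.natCast_eq_zero_iff m p).1 e)
    have : ((m * ((m : ZMod p)⁻¹).val : ℕ) : ZMod p) = 1 := by
      rw [Nat.cast_mul, ZMod.natCast_zmod_val, mul_inv_cancel₀ hne]
    have := congrArg ZMod.val this
    rwa [ZMod.val_natCast, ZMod.val_one] at this
  have hmul : ∀ k, S ζ (m * k) = S ζ m * ∑ i ∈ Finset.range k, ζ ^ (m * i) := fun k => by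
    induction k with
    | zero => simp [S]
    | succ k ih => rw [Nat.mul_succ, S_add, ih, Finset.sum_range_succ]; ring
  refine IsUnit.of_mul_eq_one (∑ i ∈ Finset.range m', ζ ^ (m * i)) ?_
  rw [← hmul, ← S_mod h, hm']
  simp [S]

/-- The root set: `s k = 1 + ζ + ... + ζ^(k-1)`. -/
def sv (ζ : A) {p : ℕ} (k : ZMod p) : A := S ζ k.val

theorem sv_succ {ζ : A} {p : ℕ} [hp : Fact p.Prime] (h : S ζ p = 0) (k : ZMod p) :
    sv ζ (k + 1) = sv ζ k + ζ ^ k.val := by
  rw [sv, ZMod.val_add, S_mod h, ZMod.val_one, S_add]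
  simp [sv, S]

theorem isUnit_sv_sub {ζ : A} {p : ℕ} [hp : Fact p.Prime] (h : S ζ p = 0) {j k : ZMod p}
    (hjk : j ≠ k) : IsUnit (sv ζ j - sv ζ k) := by
  have hζ : IsUnit ζ := IsUnit.of_pow_eq_one (pow_eq_one h) hp.out.ne_zero
  have key : ∀ a b : ℕ, a < b → b < p → IsUnit (S ζ b - S ζ a) := fun a b hab hb => by
    obtain ⟨d, rfl⟩ := Nat.exists_eq_add_of_le hab.le
    rw [S_add, add_sub_cancel_left]
    exact (hζ.pow a).mul (isUnit_S h d (Nat.not_dvd_of_pos_of_lt (by omega) (by omega)))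
  have hne : j.val ≠ k.val := fun e => hjk (ZMod.val_injective p e)
  rcases hne.lt_or_gt with hlt | hgt
  · rw [← IsUnit.neg_iff, neg_sub]; exact key _ _ hlt k.val_lt
  · exact key _ _ hgt j.val_lt

theorem one_add_mul_sv (ζ : A) {p : ℕ} (k : ZMod p) : 1 + (ζ - 1) * sv ζ k = ζ ^ k.val := by
  have := mul_geom_sum ζ k.val
  rw [sv, S, this]; ring

/-- A lift of an idempotent modulo `K` with `1 + (ζ - 1) h` a unit. -/
theorem exists_unit_lift (hA : Curves.IsAIC A) {p : ℕ} [hp : Fact p.Prime] (η : A)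
    (hη : S η p = 0) (K : Ideal A) (e : A) (he : e * e - e ∈ K) :
    ∃ h : A, h - e ∈ K ∧ IsUnit (1 + (η ^ (p - 1) - 1) * h) := by
  nontriviality A
  have h1 := pow_eq_one hη
  have hp0 := hp.out.pos
  set ζ := η ^ (p - 1) with hζ
  have hζη : ζ * η = 1 := by rw [hζ, ← pow_succ, show p - 1 + 1 = p by omega, h1]
  -- q n = (η ^ n - 1) / (ζ - 1)
  let q : ℕ → A := fun n => -(η * S η n)
  have hq0 : q 0 = 0 := by simp [q, S]
  have hqs : ∀ n, q n - q (n + 1) = η ^ (n + 1) := fun n => by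
    simp only [q, S, Finset.sum_range_succ]; ring
  have hqp : q p = 0 := by simp [q, hη]
  have hql : ∀ n, (ζ - 1) * q n = η ^ n - 1 := fun n => by
    have h2 := geom_sum_mul η n
    simp only [q, S]
    linear_combination h2 - (∑ i ∈ Finset.range n, η ^ i) * hζη
  -- the auxiliary equation
  let c : ℕ → A := fun i => 1 + (ζ - 1) * e * q i
  have hm : (X ^ p + ∑ i : Fin p, C (c i) * X ^ (i : ℕ)).Monic :=
    monic_X_pow_add (degree_sum_fin_lt _)
  have hd : 0 < (X ^ p + ∑ i : Fin p, C (c i) * X ^ (i : ℕ)).natDegree := by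
    rw [natDegree_eq_of_degree_eq_some (n := p)]
    · omega
    rw [degree_add_eq_left_of_degree_lt] <;> rw [degree_X_pow]
    exact degree_sum_fin_lt _
  obtain ⟨w, hw⟩ := hA _ hm hd
  have hw0 : (∑ i ∈ Finset.range (p + 1), c i * w ^ i) = 0 := by
    have hcp : c p = 1 := by simp [c, hqp]
    rw [Finset.sum_range_succ, hcp, one_mul, add_comm]
    simpa [eval_finset_sum, Fin.sum_univ_eq_sum_range (fun i => c i * w ^ i)] using hw
  let Φ : A := ∑ i ∈ Finset.range (p + 1), w ^ i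
  let Ψ : A := ∑ i ∈ Finset.range (p + 1), q i * w ^ i
  let G1 : A := ∑ i ∈ Finset.range (p + 1), η ^ i * w ^ i
  have hG : Φ + (ζ - 1) * e * Ψ = 0 := by
    rw [← hw0]
    simp only [Φ, Ψ, c, Finset.mul_sum, ← Finset.sum_add_distrib]
    exact Finset.sum_congr rfl fun i _ => by ring
  have hG1 : G1 = Φ + (ζ - 1) * Ψ := by
    simp only [G1, Φ, Ψ, Finset.mul_sum, ← Finset.sum_add_distrib]
    exact Finset.sum_congr rfl fun i _ => by rw [← mul_assoc, hql]; ring
  have hid : ∀ n, (w - 1) * (∑ i ∈ Finset.range (n + 1), q i * w ^ i) + 1 =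
      (∑ i ∈ Finset.range (n + 1), η ^ i * w ^ i) + q n * w ^ (n + 1) := fun n => by
    induction n with
    | zero => simp [hq0]
    | succ n ih =>
      rw [Finset.sum_range_succ, Finset.sum_range_succ (n := n + 1), ← hqs n]
      linear_combination ih
  have hid' : (w - 1) * Ψ + 1 = G1 := by
    have := hid p
    rwa [hqp, zero_mul, add_zero] at this
  have hwu : IsUnit w := by
    refine IsUnit.of_mul_eq_one (-(∑ i ∈ Finset.range p, c (i + 1) * w ^ i)) ?_
    rw [Finset.sum_range_succ'] at hw0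
    have hc0 : c 0 = 1 := by simp [c, hq0]
    simp only [pow_succ, ← mul_assoc, pow_zero, hc0, mul_one] at hw0
    rw [← Finset.sum_mul] at hw0
    linear_combination -hw0
  refine ⟨e + (ζ - 1) * (e * e - e) * Ψ, ?_, ?_⟩
  · rw [add_sub_cancel_left]
    exact Ideal.mul_mem_right _ _ (Ideal.mul_mem_left _ _ he)
  · have hgeom : (w - 1) * Φ = w ^ (p + 1) - 1 := mul_geom_sum w (p + 1)
    have : 1 + (ζ - 1) * (e + (ζ - 1) * (e * e - e) * Ψ) = w ^ (p + 1) := by
      linear_combination hgeom + ((ζ - 1) * e - (w - 1)) * hG + (ζ - 1) * e * hG1 +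
        (ζ - 1) * e * hid'
    rw [this]
    exact hwu.pow _

/-- Coefficientwise congruence over an idempotent. -/
theorem coeff_eq_of_idem {R : Type u} [CommRing R] {p : ℕ} [Fact p.Prime] (ζ : R) (hζ : S ζ p = 0)
    (e : R) (he : e * e = e) :
    ∏ k : ZMod p, (X - C (sv ζ k)) = ∏ k : ZMod p, (X - C (e + (1 + (ζ - 1) * e) * sv ζ k)) := by
  have hcast : ∀ k : ZMod p, e + (1 + (ζ - 1) * e) * sv ζ k =
      sv ζ k + e * (sv ζ (k + 1) - sv ζ k) := fun k => by
    have h1 := one_add_mul_sv ζ k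
    rw [sv_succ hζ]
    linear_combination e * h1
  simp only [hcast]
  refine Polynomial.ext fun n => ?_
  rw [← sub_eq_zero]
  -- check on both factors
  have h0 : ∀ (Q : Type u) [CommRing Q] (f : R →+* Q), f e = 0 ∨ f e = 1 →
      f ((∏ k : ZMod p, (X - C (sv ζ k))).coeff n -
        (∏ k : ZMod p, (X - C (sv ζ k + e * (sv ζ (k + 1) - sv ζ k)))).coeff n) = 0 := by
    intro Q _ f hf
    rw [map_sub, ← coeff_map, ← coeff_map, sub_eq_zero]
    congr 1
    simp only [Polynomial.map_prod, Polynomial.map_sub, map_X, map_C, map_add, map_mul, map_sub]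
    rcases hf with hf | hf
    · simp [hf]
    · refine (Fintype.prod_equiv (Equiv.addRight (1 : ZMod p)) _ _ fun k => ?_).symm
      simp [hf]
  have ha := h0 _ (Ideal.Quotient.mk (Ideal.span {e})) (Or.inl
    (Ideal.Quotient.eq_zero_iff_mem.2 (Ideal.mem_span_singleton_self e)))
  have h1e : Ideal.Quotient.mk (Ideal.span {1 - e}) (1 - e) = 0 :=
    Ideal.Quotient.eq_zero_iff_mem.2 (Ideal.mem_span_singleton_self (1 - e))
  rw [map_sub, map_one, sub_eq_zero] at h1e
  have hb := h0 _ (Ideal.Quotient.mk (Ideal.span {1 - e})) (Or.inr h1e.symm)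
  rw [Ideal.Quotient.eq_zero_iff_mem, Ideal.mem_span_singleton] at ha hb
  obtain ⟨a, ha⟩ := ha
  obtain ⟨b, hb⟩ := hb
  linear_combination (1 - e) * ha + e * hb - (a + b) * he

end GrothLib.AicH2
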