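import Groth.Agent.Lib.AicH2.Alg

/-!
# Locally constant functions on intersections of closed subsets of an AIC spectrum
-/

set_option autoImplicit false
set_option linter.all false

universe u v

open Polynomial PrimeSpectrum Topology

noncomputable section

namespace GrothLib.AicH2

variable {A : Type u} [CommRing A]

/-- `a` is locally constant on the zero locus of `I`. -/
def LCOn {G : Type v} (I : Ideal A) (a : PrimeSpectrum A → G) : Prop :=
  IsLocallyConstant (fun P : zeroLocus (I : Set A) => a P.1)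

theorem lcOn_of_isClosed {G : Type v} [Finite G] (I : Ideal A) (a : PrimeSpectrum A → G)
    (h : ∀ g, IsClosed {P : zeroLocus (I : Set A) | a P.1 = g}) : LCOn I a := by
  refine IsLocallyConstant.iff_isOpen_fiber.2 fun g => ?_
  have : ((fun P : zeroLocus (I : Set A) => a P.1) ⁻¹' {g})ᶜ =
      ⋃ g' : {g' : G // g' ≠ g}, {P : zeroLocus (I : Set A) | a P.1 = g'.1} := by
    ext P
    simp
  exact isClosed_compl_iff.1 (this ▸ isClosed_iUnion_of_finite fun g' => h g'.1)

theorem LCOn.mono {G : Type v} {I I' : Ideal A} {a : PrimeSpectrum A → G} (h : LCOn I a)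
    (hle : I ≤ I') : LCOn I' a :=
  IsLocallyConstant.comp_continuous (g := fun P : zeroLocus (I : Set A) => a P.1) h (f := fun P : zeroLocus (I' : Set A) =>
    (⟨P.1, zeroLocus_anti_mono hle P.2⟩ : zeroLocus (I : Set A)))
    (continuous_subtype_val.subtype_mk _)

theorem exists_label {p : ℕ} [Fact p.Prime] (I : Ideal A) (r : ZMod p → A) (t : A)
    (ht : ∏ k, (t - r k) ∈ I) (hr : ∀ j k, j ≠ k → IsUnit (r j - r k)) :
    ∃ a : PrimeSpectrum A → ZMod p, LCOn I a ∧ ∀ P ∈ zeroLocus (I : Set A), t - r (a P) ∈ P.asIdeal := by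
  classical
  let a : PrimeSpectrum A → ZMod p := fun P =>
    if h : ∃ k, t - r k ∈ P.asIdeal then h.choose else 0
  have hex : ∀ P ∈ zeroLocus (I : Set A), t - r (a P) ∈ P.asIdeal := fun P hP => by
    obtain ⟨k, _, hk⟩ := (Ideal.IsPrime.prod_mem_iff (hp := P.isPrime)).1 ((mem_zeroLocus _ _).1 hP ht)
    have h : ∃ k, t - r k ∈ P.asIdeal := ⟨k, hk⟩
    simp only [a, dif_pos h]
    exact h.choose_spec
  refine ⟨a, lcOn_of_isClosed I a fun k => ?_, hex⟩
  have : {P : zeroLocus (I : Set A) | a P.1 = k} = Subtype.val ⁻¹' zeroLocus {t - r k} := by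
    ext P
    simp only [Set.mem_setOf_eq, Set.mem_preimage, mem_zeroLocus, Set.singleton_subset_iff,
      SetLike.mem_coe]
    refine ⟨fun h => h ▸ hex P.1 P.2, fun h => ?_⟩
    by_contra hne
    refine P.1.isPrime.ne_top (Ideal.eq_top_of_isUnit_mem _ ?_ (hr (a P.1) k hne))
    have := P.1.asIdeal.sub_mem h (hex P.1 P.2)
    rwa [sub_sub_sub_cancel_left] at this
  exact this ▸ (isClosed_zeroLocus _).preimage continuous_subtype_val

/-- The indicator of an idempotent on `V(I + J)` is a difference modulo a prime. -/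
theorem exists_split_idem (hA : Curves.IsAIC A) (p : ℕ) [hp : Fact p.Prime] (I J : Ideal A) (e : A)
    (he : e * e - e ∈ I ⊔ J) :
    ∃ a b : PrimeSpectrum A → ZMod p, LCOn I a ∧ LCOn J b ∧
      ∀ P ∈ zeroLocus ((I ⊔ J : Ideal A) : Set A),
        (e ∈ P.asIdeal → a P - b P = 0) ∧ (e ∉ P.asIdeal → a P - b P = 1) := by
  classical
  obtain ⟨η, hη⟩ := exists_cyclo hA p
  have hη' : S η p = 0 := hη
  set ζ := η ^ (p - 1) with hζdef
  have hζ : S ζ p = 0 := by
    have h1 := pow_eq_one hη'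
    have hζη : ζ * η = 1 := by
      rw [hζdef, ← pow_succ, show p - 1 + 1 = p from Nat.sub_add_cancel hp.out.pos, h1]
    have hu : IsUnit ζ := IsUnit.of_mul_eq_one η hζη
    have hm : ∀ i ∈ Finset.range p, η ^ (p - 1 - i) = ζ * ζ ^ i := fun i hi => by
      have hi' := Finset.mem_range.1 hi
      have : η ^ (p - 1 - i) * η ^ i = ζ := by rw [← pow_add, hζdef]; congr 1; omega
      calc η ^ (p - 1 - i) = η ^ (p - 1 - i) * (ζ * η) ^ i := by rw [hζη, one_pow, mul_one]
        _ = _ := by rw [mul_pow, mul_left_comm, this, mul_comm]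
    have : ζ * S ζ p = 0 := by
      rw [← hη', S, S, Finset.mul_sum, ← Finset.sum_range_reflect (fun i => η ^ i) p]
      exact Finset.sum_congr rfl fun i hi => (hm i hi).symm
    exact hu.mul_right_eq_zero.1 this
  obtain ⟨h, hhe, hx⟩ := exists_unit_lift hA η hη' (I ⊔ J) e he
  set L : ZMod p → A := fun k => h + (1 + (ζ - 1) * h) * sv ζ k with hLdef
  let F1 : A[X] := ∏ k : ZMod p, (X - C (sv ζ k))
  let F2 : A[X] := ∏ k : ZMod p, (X - C (L k))
  have hh : h * h - h ∈ I ⊔ J := by
    have hrw : h * h - h = (e * e - e) + (h - e) * (h + e - 1) := by ring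
    rw [hrw]
    exact add_mem he (Ideal.mul_mem_right _ _ hhe)
  -- the two products agree modulo `I + J`
  have hco : ∀ n, (F2 - F1).coeff n ∈ I ⊔ J := fun n => by
    let π := Ideal.Quotient.mk (I ⊔ J)
    have hS : ∀ m, π (S ζ m) = S (π ζ) m := fun m => by simp [S, map_sum, map_pow]
    have hsv : ∀ k : ZMod p, π (sv ζ k) = sv (π ζ) k := fun k => hS _
    have hidem : π h * π h = π h := by
      rw [← map_mul, Ideal.Quotient.eq]; exact hh
    have := coeff_eq_of_idem (π ζ) (by rw [← hS, hζ, map_zero]) (π h) hidem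
    rw [← Ideal.Quotient.eq_zero_iff_mem, coeff_sub, map_sub, ← coeff_map, ← coeff_map, sub_eq_zero]
    congr 1
    have h2 : ∀ k, π (L k) = π h + (1 + (π ζ - 1) * π h) * sv (π ζ) k := fun k => by simp [L, hsv]
    simp only [F1, F2, Polynomial.map_prod, Polynomial.map_sub, map_X, map_C, π] at hsv h2 this ⊢
    simp only [hsv, h2]
    exact this.symm
  have hi : ∀ n, ∃ i ∈ I, (F2 - F1).coeff n - i ∈ J := fun n => by
    obtain ⟨i, hi, j, hj, hij⟩ := Submodule.mem_sup.1 (hco n)
    exact ⟨i, hi, by rw [← hij, add_sub_cancel_left]; exact hj⟩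
  choose i hiI hiJ using hi
  have hm1 : F1.Monic := monic_prod_of_monic _ _ fun k _ => monic_X_sub_C _
  have hm2 : F2.Monic := monic_prod_of_monic _ _ fun k _ => monic_X_sub_C _
  rcases subsingleton_or_nontrivial A with hA' | hA'
  · exact ⟨fun _ => 0, fun _ => 0, IsLocallyConstant.const _, IsLocallyConstant.const _, fun P _ => isEmptyElim P⟩
  have hd1 : F1.natDegree = p := by simp [F1, natDegree_prod_of_monic, monic_X_sub_C]
  have hd2 : F2.natDegree = p := by simp [F2, natDegree_prod_of_monic, monic_X_sub_C]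
  let D : A[X] := ∑ n : Fin p, C (i n) * X ^ (n : ℕ)
  have hdeg : D.degree < F1.degree := by
    rw [degree_eq_natDegree hm1.ne_zero, hd1]; exact degree_sum_fin_lt _
  have hm : (F1 + D).Monic := hm1.add_of_left hdeg
  have hd : 0 < (F1 + D).natDegree := by
    rw [natDegree_eq_of_degree_eq (degree_add_eq_left_of_degree_lt hdeg), hd1]
    exact hp.out.pos
  obtain ⟨t, ht⟩ := hA _ hm hd
  rw [eval_add] at ht
  have hDI : D.eval t ∈ I := by
    simp only [D, eval_finset_sum, eval_mul, eval_C, eval_pow, eval_X]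
    exact sum_mem fun n _ => Ideal.mul_mem_right _ _ (hiI n)
  have htI : ∏ k : ZMod p, (t - sv ζ k) ∈ I := by
    have : F1.eval t = ∏ k : ZMod p, (t - sv ζ k) := by simp [F1, eval_prod]
    rw [← this, eq_neg_of_add_eq_zero_left ht]
    exact neg_mem hDI
  have htJ : ∏ k, (t - L k) ∈ J := by
    have h1 : F2.eval t = ∏ k, (t - L k) := by simp [F2, eval_prod]
    have hdiff : (F2 - F1).natDegree < p := by
      rcases eq_or_ne (F2 - F1) 0 with h0 | h0
      · rw [h0, natDegree_zero]; exact hp.out.pos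
      · rw [natDegree_lt_iff_degree_lt h0]
        calc (F2 - F1).degree < F2.degree := degree_sub_lt_left
              (by rw [degree_eq_natDegree hm1.ne_zero, degree_eq_natDegree hm2.ne_zero, hd1, hd2])
              hm2.ne_zero (by rw [hm1.leadingCoeff, hm2.leadingCoeff])
          _ = p := by rw [degree_eq_natDegree hm2.ne_zero, hd2]
    have h2 : F2.eval t = F2.eval t - F1.eval t - D.eval t := by
      linear_combination ht
    rw [← h1, h2, ← eval_sub, eval_eq_sum_range' hdiff, ← Fin.sum_univ_eq_sum_range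
      (fun n => (F2 - F1).coeff n * t ^ n)]
    simp only [D, eval_finset_sum, eval_mul, eval_C, eval_pow, eval_X, ← Finset.sum_sub_distrib,
      ← sub_mul]
    exact sum_mem fun n _ => Ideal.mul_mem_right _ _ (hiJ n)
  obtain ⟨a, ha, ha'⟩ := exists_label I (fun k => sv ζ k) t htI fun j k hjk => isUnit_sv_sub hζ hjk
  obtain ⟨b, hb, hb'⟩ := exists_label J L t htJ fun j k hjk => by
    have : L j - L k = (1 + (ζ - 1) * h) * (sv ζ j - sv ζ k) := by simp only [L]; ring
    rw [this]
    exact hx.mul (isUnit_sv_sub hζ hjk)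
  refine ⟨a, b, ha, hb, fun P hP => ?_⟩
  haveI := P.isPrime
  have hPK : I ⊔ J ≤ P.asIdeal := (mem_zeroLocus _ _).1 hP
  have h1 := ha' P ((mem_zeroLocus _ _).2 (SetLike.coe_subset_coe.2 (le_sup_left.trans hPK)))
  have h2 := hb' P ((mem_zeroLocus _ _).2 (SetLike.coe_subset_coe.2 (le_sup_right.trans hPK)))
  have h12 : sv ζ (a P) - L (b P) ∈ P.asIdeal := by
    have := P.asIdeal.sub_mem h2 h1
    rwa [sub_sub_sub_cancel_left] at this
  have h3 : h - e ∈ P.asIdeal := hPK hhe
  have huniq : ∀ j k : ZMod p, sv ζ j - sv ζ k ∈ P.asIdeal → j = k := fun j k hjk => by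
    by_contra hne
    exact P.isPrime.ne_top (Ideal.eq_top_of_isUnit_mem _ hjk (isUnit_sv_sub hζ hne))
  have hx' := one_add_mul_sv ζ (b P)
  have hs := sv_succ hζ (b P)
  constructor
  · intro heP
    have hhP : h ∈ P.asIdeal := by
      rw [← sub_add_cancel h e]
      exact add_mem h3 heP
    rw [sub_eq_zero]
    refine huniq _ _ ?_
    have hrw : sv ζ (a P) - sv ζ (b P) =
        (sv ζ (a P) - L (b P)) + h * (1 + (ζ - 1) * sv ζ (b P)) := by simp only [L]; ring
    rw [hrw]
    exact add_mem h12 (Ideal.mul_mem_right _ _ hhP)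
  · intro heP
    have hh1 : h - 1 ∈ P.asIdeal := by
      have h5 : e * (e - 1) ∈ P.asIdeal := by
        rw [mul_sub, mul_one]; exact hPK he
      have := add_mem h3 ((P.isPrime.mem_or_mem h5).resolve_left heP)
      rwa [show h - e + (e - 1) = h - 1 by ring] at this
    rw [sub_eq_iff_eq_add, add_comm]
    refine huniq _ _ ?_
    have hrw : sv ζ (a P) - sv ζ (b P + 1) =
        (sv ζ (a P) - L (b P)) + (h - 1) * (1 + (ζ - 1) * sv ζ (b P)) := by
      simp only [L]
      linear_combination -hs + hx'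
    rw [hrw]
    exact add_mem h12 (Ideal.mul_mem_right _ _ hh1)

theorem exists_idem_of_isClopen (K : Ideal A) (U : Set (zeroLocus (K : Set A))) (hU : IsClopen U) :
    ∃ e : A, e * e - e ∈ K ∧ ∀ P : zeroLocus (K : Set A), P ∈ U ↔ e ∉ P.1.asIdeal := by
  have hrange : Set.range (PrimeSpectrum.comap (Ideal.Quotient.mk K)) = zeroLocus (K : Set A) := by
    rw [range_comap_of_surjective _ _ Ideal.Quotient.mk_surjective, Ideal.mk_ker]
  let f : PrimeSpectrum (A ⧸ K) → zeroLocus (K : Set A) := fun Q =>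
    ⟨PrimeSpectrum.comap (Ideal.Quotient.mk K) Q, hrange ▸ Set.mem_range_self Q⟩
  have hf : Continuous f := (continuous_comap _).subtype_mk _
  obtain ⟨ē, hē, hU'⟩ := exists_idempotent_basicOpen_eq_of_isClopen (hU.preimage hf)
  obtain ⟨e, rfl⟩ := Ideal.Quotient.mk_surjective ē
  refine ⟨e, by rw [← Ideal.Quotient.eq, map_mul]; exact hē, fun P => ?_⟩
  obtain ⟨Q, hQ⟩ : P.1 ∈ Set.range (PrimeSpectrum.comap (Ideal.Quotient.mk K)) := by rw [hrange]; exact P.2
  have hfQ : f Q = P := Subtype.ext hQ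
  rw [← hfQ]
  show Q ∈ f ⁻¹' U ↔ _
  rw [hU']
  rfl

theorem exists_split_prime (hA : Curves.IsAIC A) (p : ℕ) [Fact p.Prime] (I J : Ideal A)
    (s : PrimeSpectrum A → ZMod p) (hs : LCOn (I ⊔ J) s) :
    ∃ a b : PrimeSpectrum A → ZMod p, LCOn I a ∧ LCOn J b ∧
      ∀ P ∈ zeroLocus ((I ⊔ J : Ideal A) : Set A), s P = a P - b P := by
  classical
  have h : ∀ k : ZMod p, ∃ a b : PrimeSpectrum A → ZMod p, LCOn I a ∧ LCOn J b ∧
      ∀ P ∈ zeroLocus ((I ⊔ J : Ideal A) : Set A), (if s P = k then 1 else 0) = a P - b P := fun k => by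
    obtain ⟨e, he, heU⟩ := exists_idem_of_isClopen (I ⊔ J) _ (hs.isClopen_fiber k)
    obtain ⟨a, b, ha, hb, hab⟩ := exists_split_idem hA p I J e he
    refine ⟨a, b, ha, hb, fun P hP => ?_⟩
    obtain ⟨h0, h1⟩ := hab P hP
    have hiff : s P = k ↔ e ∉ P.asIdeal := heU ⟨P, hP⟩
    by_cases hk : s P = k
    · rw [if_pos hk, h1 (hiff.1 hk)]
    · rw [if_neg hk, h0 (not_not.1 (mt hiff.2 hk))]
  choose a b ha hb hab using h
  let Fs : (ZMod p → ZMod p) → ZMod p := fun v => ∑ k : ZMod p, k * v k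
  have hlc : ∀ (K : Ideal A) (c : ZMod p → PrimeSpectrum A → ZMod p), (∀ k, LCOn K (c k)) →
      LCOn K (fun P => Fs fun k => c k P) := fun K c hc => by
    have : IsLocallyConstant (fun P : zeroLocus (K : Set A) => fun k => c k P.1) :=
      (IsLocallyConstant.iff_exists_open _).2 fun P => by
        refine ⟨⋂ k, {Q | c k Q.1 = c k P.1}, isOpen_iInter_of_finite fun k => (hc k).isOpen_fiber _,
          Set.mem_iInter.2 fun k => rfl, fun Q hQ => funext fun k => Set.mem_iInter.1 hQ k⟩
    exact this.comp Fs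
  refine ⟨fun P => Fs fun k => a k P, fun P => Fs fun k => b k P, hlc I a ha, hlc J b hb, fun P hP => ?_⟩
  show s P = _
  simp only [Fs, ← Finset.sum_sub_distrib, ← mul_sub, ← hab _ P hP]
  simp [mul_ite, Finset.sum_ite_eq]

theorem exists_split_zsmul (hA : Curves.IsAIC A) {G : Type v} [AddCommGroup G] [Finite G] (I J : Ideal A) :
    ∀ (n : ℕ) (g : G), addOrderOf g = n → ∀ s : PrimeSpectrum A → ℤ, LCOn (I ⊔ J) s →
      ∃ a b : PrimeSpectrum A → G, LCOn I a ∧ LCOn J b ∧
        ∀ P ∈ zeroLocus ((I ⊔ J : Ideal A) : Set A), s P • g = a P - b P := by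
  intro n
  induction n using Nat.strong_induction_on with
  | _ n ih =>
    intro g hg s hs
    by_cases h1 : n = 1
    · refine ⟨fun _ => 0, fun _ => 0, IsLocallyConstant.const _, IsLocallyConstant.const _, fun P _ => ?_⟩
      rw [AddMonoid.addOrderOf_eq_one_iff.1 (hg.trans h1), smul_zero, sub_zero]
    have hn0 : n ≠ 0 := hg ▸ (addOrderOf_pos g).ne'
    let p := n.minFac
    haveI : Fact p.Prime := ⟨Nat.minFac_prime h1⟩
    have hpdvd : p ∣ n := n.minFac_dvd
    obtain ⟨a, b, ha, hb, hab⟩ := exists_split_prime hA p I J (fun P => (s P : ZMod p)) (hs.comp _)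
    let l : ZMod p → ℤ := fun x => (x.val : ℤ)
    have hl : ∀ x, ((l x : ℤ) : ZMod p) = x := fun x => by simp [l]
    let c : PrimeSpectrum A → ℤ := fun P => (s P - l (a P) + l (b P)) / p
    have hc : LCOn (I ⊔ J) c := by
      refine IsLocallyConstant.comp ?_ (fun z : ℤ => z / (p : ℤ))
      exact (hs.comp₂ ((ha.mono le_sup_left).comp l) (· - ·)).comp₂ ((hb.mono le_sup_right).comp l) (· + ·)
    have hord : addOrderOf ((p : ℤ) • g) < n := by
      rw [natCast_zsmul, addOrderOf_nsmul' g (Nat.Prime.ne_zero Fact.out), hg, Nat.gcd_eq_right hpdvd]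
      exact Nat.div_lt_self (Nat.pos_of_ne_zero hn0) (Nat.Prime.one_lt Fact.out)
    obtain ⟨a', b', ha', hb', hab'⟩ := ih _ hord _ rfl c hc
    refine ⟨fun P => l (a P) • g + a' P, fun P => l (b P) • g + b' P,
      (ha.comp fun x => l x • g).comp₂ ha' (· + ·), (hb.comp fun x => l x • g).comp₂ hb' (· + ·),
      fun P hP => ?_⟩
    have hdiv : (p : ℤ) ∣ s P - l (a P) + l (b P) := by
      rw [← ZMod.intCast_zmod_eq_zero_iff_dvd, Int.cast_add, Int.cast_sub, hl, hl, hab P hP]
      ring
    have hsP : s P = l (a P) - l (b P) + (p : ℤ) * c P := by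
      show s P = _
      rw [Int.mul_ediv_cancel' hdiv]; ring
    show s P • g = l (a P) • g + a' P - (l (b P) • g + b' P)
    rw [hsP, add_smul, sub_smul, mul_comm, mul_smul, hab' P hP]
    abel

theorem exists_split (hA : Curves.IsAIC A) {G : Type v} [AddCommGroup G] [Finite G] (I J : Ideal A)
    (s : PrimeSpectrum A → G) (hs : LCOn (I ⊔ J) s) :
    ∃ a b : PrimeSpectrum A → G, LCOn I a ∧ LCOn J b ∧
      ∀ P ∈ zeroLocus ((I ⊔ J : Ideal A) : Set A), s P = a P - b P := by
  classical
  haveI := Fintype.ofFinite G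
  choose a b ha hb hab using fun g : G => exists_split_zsmul hA I J _ g rfl
    (fun P => if s P = g then 1 else 0) (hs.comp fun x => if x = g then (1 : ℤ) else 0)
  have hlc : ∀ (K : Ideal A) (c : G → PrimeSpectrum A → G), (∀ g, LCOn K (c g)) →
      LCOn K (fun P => ∑ g, c g P) := fun K c hc => by
    have : IsLocallyConstant (fun P : zeroLocus (K : Set A) => fun g => c g P.1) :=
      (IsLocallyConstant.iff_exists_open _).2 fun P => by
        refine ⟨⋂ k, {Q | c k Q.1 = c k P.1}, isOpen_iInter_of_finite fun k => (hc k).isOpen_fiber _,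
          Set.mem_iInter.2 fun k => rfl, fun Q hQ => funext fun k => Set.mem_iInter.1 hQ k⟩
    exact this.comp fun v => ∑ g, v g
  refine ⟨fun P => ∑ g, a g P, fun P => ∑ g, b g P, hlc I a ha, hlc J b hb, fun P hP => ?_⟩
  show s P = _
  simp only [← Finset.sum_sub_distrib, ← hab _ P hP]
  simp [ite_smul, Finset.sum_ite_eq]

end GrothLib.AicH2
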