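import Groth.Agent.Lib.AicH2.Sheaf
import Groth.Agent.Lib.EtDer.SpecAcyclic
import Groth.Agent.Lib.AICAcyc18.Basic

/-!
# Affine schemes with absolutely integrally closed rings are acyclic for finite constant coefficients
-/

set_option autoImplicit false
set_option backward.isDefEq.respectTransparency false
set_option backward.isDefEq.respectTransparency.types false
set_option linter.style.haveILetI false
set_option linter.all false

universe u

open CategoryTheory CategoryTheory.Limits CategoryTheory.Abelian AlgebraicGeometry Opposite Polynomial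
open GrothLib.EtDer GrothLib.EtDer.MV

noncomputable section

namespace GrothLib.AicH2

theorem isAIC_of_isLocalization {A S : Type u} [CommRing A] [CommRing S] [Algebra A S] (M : Submonoid A)
    [IsLocalization M S] (hA : Curves.IsAIC A) : Curves.IsAIC S := by
  rcases subsingleton_or_nontrivial S with hS | hS
  · exact fun g _ _ => ⟨0, Subsingleton.elim _ _⟩
  intro g hg hd
  obtain ⟨c, hc⟩ := IsLocalization.exist_integer_multiples M (Finset.range (g.natDegree + 1)) g.coeff
  set φ := algebraMap A S
  obtain ⟨u, hu⟩ := (IsLocalization.map_units S c).exists_right_inv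
  have hm : (g.scaleRoots (φ c)).Monic := (monic_scaleRoots_iff _).2 hg
  have hl : g.scaleRoots (φ c) ∈ Polynomial.lifts φ := by
    rw [Polynomial.lifts_iff_coeff_lifts]
    intro i
    rw [coeff_scaleRoots]
    rcases lt_trichotomy i g.natDegree with hi | rfl | hi
    · obtain ⟨a, ha⟩ := hc i (Finset.mem_range.2 (by omega))
      refine ⟨a * (c : A) ^ (g.natDegree - i - 1), ?_⟩
      rw [map_mul, map_pow, ha, Algebra.smul_def, show g.natDegree - i = g.natDegree - i - 1 + 1 by omega,
        pow_succ, Nat.add_sub_cancel]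
      ring
    · exact ⟨1, by simp [φ, hg.coeff_natDegree]⟩
    · exact ⟨0, by simp [φ, coeff_eq_zero_of_natDegree_lt hi]⟩
  obtain ⟨q, hq, hdeg, hqm⟩ := Polynomial.lifts_and_degree_eq_and_monic hl hm
  obtain ⟨r, hr⟩ := hA q hqm (by
    rw [natDegree_eq_of_degree_eq hdeg, natDegree_scaleRoots]; exact hd)
  refine ⟨u * φ r, ?_⟩
  have h2 := scaleRoots_eval_mul g (u * φ r) (φ (c : A))
  rw [← mul_assoc, hu, one_mul, ← hq, Polynomial.eval_map, eval₂_at_apply, hr, map_zero] at h2
  exact (((IsLocalization.map_units S c).pow g.natDegree).mul_right_eq_zero).1 h2.symm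

theorem isStrictlyHenselian {A : Type u} [CommRing A] [IsLocalRing A] (hA : Curves.IsAIC A) :
    EtCoh.IsStrictlyHenselianLocalRing A := by
  have key : ∀ (n : ℕ) (f : A[X]), f.Monic → f.natDegree = n → ∀ a₀, f.eval a₀ ∈ IsLocalRing.maximalIdeal A →
      ∃ a, f.IsRoot a ∧ a - a₀ ∈ IsLocalRing.maximalIdeal A := by
    intro n
    induction n with
    | zero =>
      intro f hf hn a₀ h₀
      rw [Polynomial.eq_one_of_monic_natDegree_zero hf hn, eval_one] at h₀
      exact absurd h₀ ((Ideal.ne_top_iff_one _).1 (IsLocalRing.maximalIdeal.isMaximal A).ne_top)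
    | succ n ih =>
      intro f hf hn a₀ h₀
      obtain ⟨r, hr⟩ := hA f hf (by omega)
      obtain ⟨g, rfl⟩ := dvd_iff_isRoot.2 hr
      have hg : g.Monic := (monic_X_sub_C r).of_mul_monic_left hf
      have hgn : g.natDegree = n := by
        rw [(monic_X_sub_C r).natDegree_mul hg, natDegree_X_sub_C] at hn
        omega
      rw [eval_mul, eval_sub, eval_X, eval_C] at h₀
      rcases (IsLocalRing.maximalIdeal.isMaximal A).isPrime.mem_or_mem h₀ with h | h
      · exact ⟨r, by simp, by rw [← neg_sub]; exact neg_mem h⟩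
      · obtain ⟨a, ha, ha'⟩ := ih g hg hgn a₀ h
        exact ⟨a, root_mul_left_of_isRoot _ ha, ha'⟩
  refine ⟨{ is_henselian := fun f hf a₀ h₀ _ => key _ f hf rfl a₀ h₀ }, ?_⟩
  have hk : Curves.IsAIC (IsLocalRing.ResidueField A) :=
    isAIC_of_surjective hA _ IsLocalRing.residue_surjective
  haveI : IsAlgClosed (IsLocalRing.ResidueField A) := IsAlgClosed.of_exists_root _ fun f hf hirr =>
    hk f hf hirr.natDegree_pos
  infer_instance

theorem subsingleton_H {X : Scheme.{u}} [IsAffine X] (hX : Curves.IsAIC Γ(X, ⊤)) (M : Type) [AddCommGroup M]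
    [Finite M] (n : ℕ) : Subsingleton (EtCoh.H X (EtCoh.const X M) (n + 1)) := by
  refine EtDer.subsingleton_H (fun x => ?_) _ ?_ n
  · letI := TopCat.Presheaf.algebra_section_stalk X.presheaf (⟨x, trivial⟩ : (⊤ : X.Opens))
    letI := (isAffineOpen_top X).isLocalization_stalk ⟨x, trivial⟩
    exact isStrictlyHenselian (isAIC_of_isLocalization
      ((isAffineOpen_top X).primeIdealOf ⟨x, trivial⟩).asIdeal.primeCompl hX)
  intro f g _ _ x _ _
  let D := X.basicOpen (f + g)
  haveI : IsAffine D.toScheme := (isAffineOpen_top X).basicOpen (f + g)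
  have hD : Curves.IsAIC Γ(D.toScheme, ⊤) := by
    letI := (isAffineOpen_top X).isLocalization_basicOpen (f + g)
    have h1 : Curves.IsAIC Γ(X, D) := isAIC_of_isLocalization (Submonoid.powers (f + g)) hX
    exact isAIC_of_surjective h1 D.topIso.inv.hom
      (ConcreteCategory.bijective_of_isIso D.topIso.inv).2
  haveI := subsingleton_H_one hD M
  refine (psi (EtCoh.const X M) D 1).injective ?_
  rw [map_zero]
  let c := EtCore.pullConst D.ι M
  have h0 : ∀ y : EtCoh.H D.toScheme ((EtCoh.pull D.ι).obj (EtCoh.const X M)) 1, y = 0 := fun y => by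
    rw [← Ext.comp_mk₀_id y, ← c.hom_inv_id, ← Ext.mk₀_comp_mk₀, ← Ext.comp_assoc_of_second_deg_zero,
      Subsingleton.elim (y.comp (Ext.mk₀ c.hom) (add_zero 1)) 0, Ext.zero_comp]
  exact h0 _

end GrothLib.AicH2
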