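import Groth.Agent.Lib.AicH2.Interp

/-!
# Torsors over absolutely integrally closed rings have sections
-/

set_option autoImplicit false
set_option linter.all false

universe u v

open Polynomial PrimeSpectrum Topology TensorProduct

noncomputable section

namespace GrothLib.AicH2

variable {A : Type u} [CommRing A]

theorem eq_algebraMap_of_isIntegral (hA : Curves.IsAIC A) {D : Type u} [CommRing D] [IsDomain D]
    [Algebra A D] : ∀ (n : ℕ) (f : A[X]), f.Monic → f.natDegree = n → ∀ b : D, aeval b f = 0 →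
      b ∈ Set.range (algebraMap A D) := by
  rcases subsingleton_or_nontrivial A with hA' | hA'
  · haveI : Subsingleton D := RingHom.codomain_trivial (algebraMap A D)
    exact absurd this (not_subsingleton D)
  intro n
  induction n with
  | zero =>
    intro f hf hn b hb
    rw [Polynomial.eq_one_of_monic_natDegree_zero hf hn, map_one] at hb
    exact absurd hb one_ne_zero
  | succ n ih =>
    intro f hf hn b hb
    obtain ⟨r, hr⟩ := hA f hf (by omega)
    obtain ⟨g, rfl⟩ := dvd_iff_isRoot.2 hr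
    have hg : g.Monic := (monic_X_sub_C r).of_mul_monic_left hf
    have hgn : g.natDegree = n := by
      rw [(monic_X_sub_C r).natDegree_mul hg, natDegree_X_sub_C] at hn
      omega
    rw [map_mul] at hb
    rcases mul_eq_zero.1 hb with h | h
    · rw [map_sub, aeval_X, aeval_C, sub_eq_zero] at h
      exact ⟨r, h.symm⟩
    · exact ih g hg hgn b h

theorem exists_algHom_of_prime (hA : Curves.IsAIC A) (I : Ideal A) [I.IsPrime] {B : Type u} [CommRing B]
    [Algebra A B] [Algebra.IsIntegral A B] (hsurj : Function.Surjective (PrimeSpectrum.comap (algebraMap A B))) :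
    Nonempty (B →ₐ[A] A ⧸ I) := by
  obtain ⟨Q, hQ⟩ := hsurj ⟨I, inferInstance⟩
  haveI := Q.isPrime
  have hQI : Q.asIdeal.comap (algebraMap A B) = I := congrArg PrimeSpectrum.asIdeal hQ
  have hle : I ≤ RingHom.ker (Algebra.ofId A (B ⧸ Q.asIdeal)) := fun a ha => by
    rw [RingHom.mem_ker, Algebra.ofId_apply, IsScalarTower.algebraMap_apply A B (B ⧸ Q.asIdeal),
      Ideal.Quotient.algebraMap_eq, Ideal.Quotient.eq_zero_iff_mem]
    rw [← hQI] at ha
    exact ha
  let f : (A ⧸ I) →ₐ[A] (B ⧸ Q.asIdeal) := Ideal.Quotient.liftₐ I (Algebra.ofId A _) fun a ha => hle ha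
  have hbij : Function.Bijective f := by
    constructor
    · rw [injective_iff_map_eq_zero]
      intro x hx
      obtain ⟨a, rfl⟩ := Ideal.Quotient.mk_surjective x
      rw [Ideal.Quotient.eq_zero_iff_mem, ← hQI]
      have : algebraMap A (B ⧸ Q.asIdeal) a = 0 := hx
      rw [IsScalarTower.algebraMap_apply A B (B ⧸ Q.asIdeal), Ideal.Quotient.algebraMap_eq,
        Ideal.Quotient.eq_zero_iff_mem] at this
      exact this
    · intro y
      obtain ⟨g, hg, hgy⟩ := Algebra.IsIntegral.isIntegral (R := A) y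
      obtain ⟨a, ha⟩ := eq_algebraMap_of_isIntegral hA (D := B ⧸ Q.asIdeal) _ g hg rfl y hgy
      exact ⟨Ideal.Quotient.mk I a, ha⟩
  exact ⟨(AlgEquiv.ofBijective f hbij).symm.toAlgHom.comp (Ideal.Quotient.mkₐ A Q.asIdeal)⟩

/-- A point with values in `A / I'` exists modulo any ideal containing a suitable finite part of `I'`. -/
theorem spread {B : Type u} [CommRing B] [Algebra A B] [Algebra.FinitePresentation A B] (I' : Ideal A)
    (s : B →ₐ[A] A ⧸ I') :
    ∃ F : Finset A, (F : Set A) ⊆ I' ∧ ∀ I : Ideal A, (F : Set A) ⊆ I → Nonempty (B →ₐ[A] A ⧸ I) := by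
  classical
  obtain ⟨n, f, hf, G, hG⟩ := Algebra.FinitePresentation.out (R := A) (A := B)
  choose a ha using fun i => Ideal.Quotient.mk_surjective (s (f (MvPolynomial.X i)))
  have key : ∀ (I : Ideal A) (q : MvPolynomial (Fin n) A),
      MvPolynomial.aeval (fun i => Ideal.Quotient.mk I (a i)) q =
        Ideal.Quotient.mk I (MvPolynomial.aeval a q) := fun I q => by
    have : (MvPolynomial.aeval fun i => Ideal.Quotient.mk I (a i)) =
        (Ideal.Quotient.mkₐ A I).comp (MvPolynomial.aeval a) := MvPolynomial.algHom_ext fun i => by simp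
    exact congrArg (fun (k : MvPolynomial (Fin n) A →ₐ[A] A ⧸ I) => k q) this
  refine ⟨G.image (MvPolynomial.aeval a), fun x hx => ?_, fun I hI => ?_⟩
  · obtain ⟨g, hg, rfl⟩ := Finset.mem_image.1 hx
    have hg' : f g = 0 := RingHom.mem_ker.1 (hG ▸ Ideal.subset_span hg)
    rw [SetLike.mem_coe, ← Ideal.Quotient.eq_zero_iff_mem, ← key]
    have : (MvPolynomial.aeval fun i => Ideal.Quotient.mk I' (a i)) = s.comp f :=
      MvPolynomial.algHom_ext fun i => by simp [ha i]
    rw [this, AlgHom.comp_apply, hg', map_zero]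
  · have hker : RingHom.ker f ≤ RingHom.ker (MvPolynomial.aeval fun i => Ideal.Quotient.mk I (a i)) := by
      rw [show RingHom.ker f = Ideal.span (G : Set (MvPolynomial (Fin n) A)) from hG.symm, Ideal.span_le]
      intro g hg
      rw [SetLike.mem_coe, RingHom.mem_ker, key, Ideal.Quotient.eq_zero_iff_mem]
      exact hI (Finset.mem_image_of_mem _ hg)
    exact ⟨AlgHom.liftOfSurjective f hf _ hker⟩

theorem nonempty_of_radical {B : Type u} [CommRing B] [Algebra A B] [Algebra.Etale A B] (I : Ideal A)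
    (s : B →ₐ[A] A ⧸ I.radical) : Nonempty (B →ₐ[A] A ⧸ I) := by
  obtain ⟨F, hF, hF'⟩ := spread I.radical s
  let N : Ideal A := I ⊔ Ideal.span (F : Set A)
  obtain ⟨s₁⟩ := hF' N fun x hx => le_sup_right (α := Ideal A) (Ideal.subset_span hx)
  have hIN : I ≤ N := le_sup_left
  have hNr : N ≤ I.radical := sup_le Ideal.le_radical (Ideal.span_le.2 hF)
  obtain ⟨m, hm⟩ := Ideal.exists_pow_le_of_le_radical_of_fg (I := Ideal.span (F : Set A)) (J := I)
    (Ideal.span_le.2 hF) ⟨F, rfl⟩
  let K : Ideal (A ⧸ I) := RingHom.ker (Ideal.Quotient.factorₐ A hIN)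
  have hK : IsNilpotent K := by
    refine ⟨m, ?_⟩
    have hKe : K = (Ideal.span (F : Set A)).map (Ideal.Quotient.mk I) := by
      ext x
      obtain ⟨a, rfl⟩ := Ideal.Quotient.mk_surjective x
      rw [RingHom.mem_ker, Ideal.mem_quotient_iff_mem_sup]
      show Ideal.Quotient.mk N a = 0 ↔ _
      rw [Ideal.Quotient.eq_zero_iff_mem, sup_comm]
    rw [hKe, ← Ideal.map_pow, Ideal.zero_eq_bot, Ideal.map_eq_bot_iff_le_ker, Ideal.mk_ker]
    exact hm
  let e : ((A ⧸ I) ⧸ K) ≃ₐ[A] A ⧸ N :=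
    Ideal.quotientKerAlgEquivOfSurjective (f := Ideal.Quotient.factorₐ A hIN)
      (Ideal.Quotient.factor_surjective hIN)
  exact ⟨Algebra.FormallySmooth.lift K hK (e.symm.toAlgHom.comp s₁)⟩

/-- Two points of an unramified algebra agree on an open and closed set. -/
theorem exists_eq_elem {B C : Type u} [CommRing B] [Algebra A B] [CommRing C] [Algebra A C]
    [Algebra.FormallyUnramified A B] [Algebra.EssFiniteType A B] (g₁ g₂ : B →ₐ[A] C) :
    ∃ e : C, (∀ b, (g₂ b - g₁ b) * e = 0) ∧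
      ∀ P : PrimeSpectrum C, (∀ b, g₂ b - g₁ b ∈ P.asIdeal) → e ∉ P.asIdeal := by
  let m : B ⊗[A] B →ₐ[A] C := Algebra.TensorProduct.lift g₁ g₂ fun _ _ => mul_comm _ _
  have hm : ∀ x y : B, m (x ⊗ₜ[A] y) = g₁ x * g₂ y := fun x y =>
    Algebra.TensorProduct.lift_tmul _ _ _ x y
  refine ⟨m (Algebra.FormallyUnramified.elem A B), fun b => ?_, fun P hP he => ?_⟩
  · have := congrArg m (Algebra.FormallyUnramified.one_tmul_sub_tmul_one_mul_elem (R := A) b)
    rw [map_mul, map_sub, hm, hm, map_one, map_one, one_mul, mul_one, map_zero] at this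
    exact this
  · let π := Ideal.Quotient.mkₐ A P.asIdeal
    have : π.comp m = (π.comp g₁).comp (Algebra.TensorProduct.lmul' A) :=
      Algebra.TensorProduct.ext' fun a b => by
        have hb : π (g₂ b) = π (g₁ b) := Ideal.Quotient.eq.2 (hP b)
        show π (m (a ⊗ₜ[A] b)) = _
        rw [hm, map_mul, hb]
        simp
    have h1 := congrArg (fun k : B ⊗[A] B →ₐ[A] C ⧸ P.asIdeal => k (Algebra.FormallyUnramified.elem A B)) this
    simp only [AlgHom.comp_apply, Algebra.FormallyUnramified.lmul_elem, map_one] at h1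
    refine P.isPrime.ne_top ((Ideal.eq_top_iff_one _).2 ?_)
    rw [← Ideal.Quotient.eq_zero_iff_mem, map_one]
    exact h1.symm.trans (Ideal.Quotient.eq_zero_iff_mem.2 he)

theorem ext_of_forall_prime {B C : Type u} [CommRing B] [Algebra A B] [CommRing C] [Algebra A C]
    [Algebra.FormallyUnramified A B] [Algebra.EssFiniteType A B] (g₁ g₂ : B →ₐ[A] C)
    (h : ∀ (P : PrimeSpectrum C) (b : B), g₂ b - g₁ b ∈ P.asIdeal) : g₁ = g₂ := by
  obtain ⟨e, he, he'⟩ := exists_eq_elem g₁ g₂
  have hu : IsUnit e := by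
    by_contra hu
    obtain ⟨P, hP, heP⟩ := exists_max_ideal_of_mem_nonunits hu
    exact he' ⟨P, hP.isPrime⟩ (h _) heP
  ext b
  exact (sub_eq_zero.1 (hu.mul_left_eq_zero.1 (he b))).symm

/-- Twist a point by a locally constant choice. -/
theorem exists_twist {B C : Type u} [CommRing B] [Algebra A B] [CommRing C] [Algebra A C] {M : Type v}
    [Finite M] (g : M → (B →ₐ[A] C)) (a : PrimeSpectrum C → M) (ha : IsLocallyConstant a) :
    ∃ g' : B →ₐ[A] C, ∀ (P : PrimeSpectrum C) (b : B), g' b - g (a P) b ∈ P.asIdeal := by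
  classical
  haveI := Fintype.ofFinite M
  choose ε hε hεU using fun m => exists_idempotent_basicOpen_eq_of_isClopen (ha.isClopen_fiber m)
  have hmem : ∀ m (P : PrimeSpectrum C), ε m ∈ P.asIdeal ↔ a P ≠ m := fun m P => by
    have := Set.ext_iff.1 (hεU m) P
    simp only [SetLike.mem_coe, PrimeSpectrum.mem_basicOpen] at this
    exact ⟨fun h e => this.1 e h, fun h => not_not.1 (mt this.2 h)⟩
  have hnil : ∀ x : C, x * x = x → (∀ P : PrimeSpectrum C, x ∈ P.asIdeal) → x = 0 := fun x hx hP => by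
    have : IsNilpotent x := nilpotent_iff_mem_prime.2 fun J hJ => hP ⟨J, hJ⟩
    exact IsIdempotentElem.eq_zero_of_isNilpotent hx this
  have hsub1 : ∀ m (P : PrimeSpectrum C), a P = m → ε m - 1 ∈ P.asIdeal := fun m P h => by
    have : ε m * (ε m - 1) ∈ P.asIdeal := by rw [mul_sub, mul_one, (hε m).eq, sub_self]; exact zero_mem _
    exact (P.isPrime.mem_or_mem this).resolve_left fun h' => (hmem m P).1 h' h
  have horth : ∀ m n, m ≠ n → ε m * ε n = 0 := fun m n hmn => hnil _ (IsIdempotentElem.mul (hε m) (hε n))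
    fun P => by
      by_cases h : a P = m
      · exact Ideal.mul_mem_left _ _ ((hmem n P).2 (h ▸ hmn))
      · exact Ideal.mul_mem_right _ _ ((hmem m P).2 h)
  have hsumidem : (∑ m, ε m) * (∑ m, ε m) = ∑ m, ε m := by
    rw [Finset.sum_mul]
    refine Finset.sum_congr rfl fun m _ => ?_
    rw [Finset.mul_sum, Finset.sum_eq_single m (fun n _ hn => horth m n hn.symm) (by simp)]
    exact hε m
  have hsum : ∑ m, ε m = 1 := by
    refine (sub_eq_zero.1 (hnil (1 - ∑ m, ε m) (by linear_combination hsumidem) fun P => ?_)).symm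
    rw [← Finset.add_sum_erase _ ε (Finset.mem_univ (a P)), ← sub_sub, ← neg_sub (ε (a P))]
    exact sub_mem (neg_mem (hsub1 _ P rfl)) (sum_mem fun m hm => (hmem m P).2 (Finset.ne_of_mem_erase hm).symm)
  let gf : B → C := fun b => ∑ m, ε m * g m b
  refine ⟨AlgHom.mk' ⟨⟨⟨gf, by simp [gf, hsum]⟩, fun x y => ?_⟩, by simp [gf], fun x y => by
    simp [gf, mul_add, Finset.sum_add_distrib]⟩ fun c x => ?_, fun P b => ?_⟩
  · simp only [gf, map_mul, Finset.sum_mul]
    refine Finset.sum_congr rfl fun m _ => ?_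
    rw [Finset.mul_sum, Finset.sum_eq_single m (fun n _ hn => by
      rw [mul_mul_mul_comm, horth m n hn.symm, zero_mul]) (by simp), mul_mul_mul_comm, (hε m).eq]
  · show gf (c • x) = c • gf x
    simp [gf, Finset.smul_sum]
  · show gf b - _ ∈ _
    simp only [gf]
    rw [← Finset.add_sum_erase _ _ (Finset.mem_univ (a P)), add_comm, add_sub_assoc]
    refine add_mem (sum_mem fun m hm => Ideal.mul_mem_right _ _ ((hmem m P).2 (Finset.ne_of_mem_erase hm).symm)) ?_
    have := Ideal.mul_mem_right (g (a P) b) _ (hsub1 _ P rfl)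
    rwa [sub_mul, one_mul] at this

/-- A finite etale algebra with a transitive action of a finite abelian group has a point. -/
theorem exists_algHom (hA : Curves.IsAIC A) {B : Type u} [CommRing B] [Algebra A B] [Algebra.Etale A B]
    [Module.Finite A B] (hsurj : Function.Surjective (PrimeSpectrum.comap (algebraMap A B)))
    {M : Type v} [AddCommGroup M] [Finite M] (φ : M → (B →ₐ[A] B))
    (hφ : ∀ x y, φ (x + y) = (φ x).comp (φ y))
    (htrans : ∀ (K : Type u) [Field K] [IsAlgClosed K] [Algebra A K] (s₁ s₂ : B →ₐ[A] K),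
      ∃ m, s₂ = s₁.comp (φ m)) :
    Nonempty (B →ₐ[A] A) := by
  classical
  suffices h : ∀ I : Ideal A, Nonempty (B →ₐ[A] A ⧸ I) by
    obtain ⟨s⟩ := h ⊥
    exact ⟨(AlgEquiv.quotientBot A A).toAlgHom.comp s⟩
  by_contra hcon
  push Not at hcon
  obtain ⟨I₀, hI₀⟩ := hcon
  obtain ⟨I, hI₀I, hI⟩ := zorn_le_nonempty₀ {I : Ideal A | IsEmpty (B →ₐ[A] A ⧸ I)}
    (fun c hc hchain J hJ => ⟨sSup c, ⟨fun s => by
      obtain ⟨F, hF, hF'⟩ := spread _ s
      have : ∀ x ∈ F, ∃ J' ∈ c, x ∈ J' := fun x hx =>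
        (Submodule.mem_sSup_of_directed ⟨J, hJ⟩ hchain.directedOn).1 (hF hx)
      obtain ⟨J', hJ', hFJ'⟩ : ∃ J' ∈ c, (F : Set A) ⊆ J' := by
        clear hF hF'
        induction F using Finset.induction with
        | empty => exact ⟨J, hJ, by simp⟩
        | insert x F hx ih =>
          obtain ⟨J₁, hJ₁, hx₁⟩ := this x (Finset.mem_insert_self _ _)
          obtain ⟨J₂, hJ₂, hF₂⟩ := ih fun y hy => this y (Finset.mem_insert_of_mem hy)
          obtain ⟨J₃, hJ₃, h₁, h₂⟩ := hchain.directedOn J₁ hJ₁ J₂ hJ₂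
          exact ⟨J₃, hJ₃, by rw [Finset.coe_insert, Set.insert_subset_iff]; exact ⟨h₁ hx₁, hF₂.trans h₂⟩⟩
      exact (hc hJ').elim' (hF' J' hFJ').some⟩, fun J' hJ' => le_sSup hJ'⟩) I₀ hI₀
  haveI hempty : IsEmpty (B →ₐ[A] A ⧸ I) := hI.prop
  have hbig : ∀ J : Ideal A, I ≤ J → J ≠ I → Nonempty (B →ₐ[A] A ⧸ J) := fun J hle hne =>
    not_isEmpty_iff.1 fun hJ => hne (le_antisymm (hI.2 hJ hle) hle)
  have hrad : I.radical = I := by
    by_contra hne
    obtain ⟨s⟩ := hbig _ Ideal.le_radical hne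
    exact hempty.elim' (nonempty_of_radical I s).some
  have hne : I ≠ ⊤ := fun h => by
    subst h
    haveI : Subsingleton (A ⧸ (⊤ : Ideal A)) := Ideal.Quotient.subsingleton_iff.2 rfl
    exact hempty.elim' (AlgHom.mk' ⟨⟨⟨fun _ => 0, Subsingleton.elim _ _⟩, fun _ _ => Subsingleton.elim _ _⟩,
      Subsingleton.elim _ _, fun _ _ => Subsingleton.elim _ _⟩ fun _ _ => Subsingleton.elim _ _)
  by_cases hprime : I.IsPrime
  · exact hempty.elim' (exists_algHom_of_prime hA I hsurj).some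
  obtain ⟨x, hx, y, hy, hxy⟩ : ∃ x, x ∉ I ∧ ∃ y, y ∉ I ∧ x * y ∈ I := by
    rcases Ideal.not_isPrime_iff.1 hprime with h | ⟨x, hx, y, hy, hxy⟩
    · exact absurd h hne
    · exact ⟨x, hx, y, hy, hxy⟩
  set I₁ := I ⊔ Ideal.span {x} with hI₁def
  set I₂ := I ⊔ Ideal.span {y} with hI₂def
  have hI12 : I₁ ⊓ I₂ ≤ I := fun z ⟨hz₁, hz₂⟩ => by
    rw [← hrad]
    refine ⟨2, ?_⟩
    rw [pow_two]
    have h := Ideal.mul_mem_mul hz₁ hz₂
    have hle : I₁ * I₂ ≤ I := by
      simp only [hI₁def, hI₂def, Ideal.sup_mul, Ideal.mul_sup, Ideal.span_singleton_mul_span_singleton]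
      refine sup_le (sup_le ?_ ?_) (sup_le ?_ ((Ideal.span_singleton_le_iff_mem I).2 hxy)) <;>
        first | exact Ideal.mul_le_left | exact Ideal.mul_le_right
    exact hle h
  obtain ⟨s₁⟩ := hbig I₁ le_sup_left fun h => hx (h ▸ le_sup_right (α := Ideal A) (Ideal.mem_span_singleton_self x))
  obtain ⟨s₂⟩ := hbig I₂ le_sup_left fun h => hy (h ▸ le_sup_right (α := Ideal A) (Ideal.mem_span_singleton_self y))
  set K := I₁ ⊔ I₂ with hKdef
  let q₁ : (A ⧸ I₁) →ₐ[A] A ⧸ K := Ideal.Quotient.factorₐ A le_sup_left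
  let q₂ : (A ⧸ I₂) →ₐ[A] A ⧸ K := Ideal.Quotient.factorₐ A le_sup_right
  choose e he he' using fun m : M => exists_eq_elem ((q₁.comp s₁).comp (φ m)) (q₂.comp s₂)
  -- the agreement sets
  let E : M → Set (PrimeSpectrum (A ⧸ K)) := fun m => {P | ∀ b, q₂ (s₂ b) - q₁ (s₁ (φ m b)) ∈ P.asIdeal}
  have hEeq : ∀ m, E m = (PrimeSpectrum.basicOpen (e m) : Set (PrimeSpectrum (A ⧸ K))) := fun m => by
    ext P
    refine ⟨fun h => he' m P h, fun h b => ?_⟩
    exact (P.isPrime.mem_or_mem ((he m b).symm ▸ P.asIdeal.zero_mem)).resolve_right h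
  have hEclosed : ∀ m, IsClosed (E m) := fun m => by
    have : E m = ⋂ b, zeroLocus {q₂ (s₂ b) - q₁ (s₁ (φ m b))} := by
      ext P; simp [E, mem_zeroLocus, Set.singleton_subset_iff]
    rw [this]
    exact isClosed_iInter fun b => isClosed_zeroLocus _
  have hcover : ∀ P, ∃ m, P ∈ E m := fun P => by
    let K' := AlgebraicClosure P.asIdeal.ResidueField
    let π : (A ⧸ K) →ₐ[A] K' :=
      ((IsScalarTower.toAlgHom (A ⧸ K) P.asIdeal.ResidueField K').comp
        (Algebra.ofId (A ⧸ K) P.asIdeal.ResidueField)).restrictScalars A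
    obtain ⟨m, hm⟩ := htrans K' (π.comp (q₁.comp s₁)) (π.comp (q₂.comp s₂))
    refine ⟨m, fun b => ?_⟩
    have h1 : π (q₂ (s₂ b) - q₁ (s₁ (φ m b))) = 0 := by
      rw [map_sub, sub_eq_zero]
      exact congrArg (fun k : B →ₐ[A] K' => k b) hm
    have h2 : algebraMap (A ⧸ K) P.asIdeal.ResidueField (q₂ (s₂ b) - q₁ (s₁ (φ m b))) = 0 :=
      (algebraMap P.asIdeal.ResidueField K').injective (h1.trans (map_zero _).symm)
    rwa [Ideal.algebraMap_residueField_eq_zero] at h2
  let lab : PrimeSpectrum (A ⧸ K) → M := fun P => (hcover P).choose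
  let σ : PrimeSpectrum (A ⧸ K) → M → Prop := fun P m => P ∈ E m
  have hσ : IsLocallyConstant σ := (IsLocallyConstant.iff_exists_open _).2 fun P => by
    refine ⟨⋂ m, {Q | Q ∈ E m ↔ P ∈ E m}, isOpen_iInter_of_finite fun m => ?_,
      Set.mem_iInter.2 fun m => Iff.rfl, fun Q hQ => funext fun m => propext (Set.mem_iInter.1 hQ m)⟩
    by_cases hPm : P ∈ E m
    · simp only [hPm, iff_true, Set.setOf_mem_eq]
      rw [hEeq]; exact (PrimeSpectrum.basicOpen (e m)).isOpen
    · simp only [hPm, iff_false]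
      exact (hEclosed m).isOpen_compl
  let ch : (M → Prop) → M := fun v => if h : ∃ m, v m then h.choose else 0
  have hlab : ∀ P, P ∈ E (ch (σ P)) := fun P => by
    have h : ∃ m, σ P m := hcover P
    simp only [ch, dif_pos h]
    exact h.choose_spec
  -- transport the label to the spectrum of `A`
  let ι : PrimeSpectrum (A ⧸ K) → zeroLocus (K : Set A) := fun Q =>
    ⟨PrimeSpectrum.comap (Ideal.Quotient.mk K) Q, by
      rw [mem_zeroLocus]
      intro a ha
      show Ideal.Quotient.mk K a ∈ Q.asIdeal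
      rw [Ideal.Quotient.eq_zero_iff_mem.2 ha]
      exact zero_mem _⟩
  have hι : IsHomeomorph ι := by
    have hemb := isClosedEmbedding_comap_of_surjective _ (Ideal.Quotient.mk K) Ideal.Quotient.mk_surjective
    refine isHomeomorph_iff_isEmbedding_surjective.2 ⟨IsEmbedding.of_comp ?_ continuous_subtype_val hemb.isEmbedding,
      fun P => ?_⟩
    · exact (continuous_comap _).subtype_mk _
    · obtain ⟨Q, hQ⟩ : P.1 ∈ Set.range (PrimeSpectrum.comap (Ideal.Quotient.mk K)) := by
        rw [range_comap_of_surjective _ _ Ideal.Quotient.mk_surjective, Ideal.mk_ker]; exact P.2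
      exact ⟨Q, Subtype.ext hQ⟩
  let τ : PrimeSpectrum A → M := fun P =>
    if h : P ∈ zeroLocus (K : Set A) then ch (σ (hι.homeomorph.symm ⟨P, h⟩)) else 0
  have hτ : LCOn K τ := by
    have : (fun P : zeroLocus (K : Set A) => τ P.1) = (ch ∘ σ) ∘ hι.homeomorph.symm := funext fun P => by
      simp only [τ, dif_pos P.2, Function.comp_apply, Subtype.coe_eta]
    rw [LCOn, this]
    exact (hσ.comp ch).comp_continuous hι.homeomorph.symm.continuous
  obtain ⟨a, b, ha, hb, hab⟩ := exists_split hA I₁ I₂ τ hτ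
  have hlc : ∀ (J : Ideal A) (c : PrimeSpectrum A → M), LCOn J c →
      IsLocallyConstant (fun Q : PrimeSpectrum (A ⧸ J) => c (PrimeSpectrum.comap (Ideal.Quotient.mk J) Q)) := by
    intro J c hc
    have hc' : IsLocallyConstant (fun P : zeroLocus (J : Set A) => c P.1) := hc
    have hcont : Continuous (fun Q : PrimeSpectrum (A ⧸ J) =>
        (⟨PrimeSpectrum.comap (Ideal.Quotient.mk J) Q, by
          rw [mem_zeroLocus]
          intro x hx
          show Ideal.Quotient.mk J x ∈ Q.asIdeal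
          rw [Ideal.Quotient.eq_zero_iff_mem.2 hx]
          exact zero_mem _⟩ : zeroLocus (J : Set A))) := (continuous_comap _).subtype_mk _
    exact hc'.comp_continuous hcont
  obtain ⟨t₁, ht₁⟩ := exists_twist (fun m => s₁.comp (φ m)) _ (hlc I₁ a ha)
  obtain ⟨t₂, ht₂⟩ := exists_twist (fun m => s₂.comp (φ m)) _ (hlc I₂ b hb)
  have hagree : q₁.comp t₁ = q₂.comp t₂ := ext_of_forall_prime _ _ fun Q x => by
    let P := PrimeSpectrum.comap (Ideal.Quotient.mk K) Q
    have hPK : P ∈ zeroLocus (K : Set A) := (ι Q).2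
    have hτP : τ P = ch (σ Q) := by
      simp only [τ, dif_pos hPK]
      congr 2
      exact hι.homeomorph.symm_apply_eq.2 rfl
    have hQ : ∀ z, q₂ (s₂ z) - q₁ (s₁ (φ (a P - b P) z)) ∈ Q.asIdeal := by
      have := hlab Q
      rw [← hτP, hab P hPK] at this
      exact this
    have hc₁ : PrimeSpectrum.comap (Ideal.Quotient.mk I₁) (PrimeSpectrum.comap q₁.toRingHom Q) = P :=
      PrimeSpectrum.ext (Ideal.ext fun z => Iff.rfl)
    have hc₂ : PrimeSpectrum.comap (Ideal.Quotient.mk I₂) (PrimeSpectrum.comap q₂.toRingHom Q) = P :=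
      PrimeSpectrum.ext (Ideal.ext fun z => Iff.rfl)
    have k₁ : q₁ (t₁ x) - q₁ (s₁ (φ (a P) x)) ∈ Q.asIdeal := by
      have := ht₁ (PrimeSpectrum.comap q₁.toRingHom Q) x
      simp only [Function.comp_apply, hc₁] at this
      rw [← map_sub]
      exact this
    have k₂ : q₂ (t₂ x) - q₂ (s₂ (φ (b P) x)) ∈ Q.asIdeal := by
      have := ht₂ (PrimeSpectrum.comap q₂.toRingHom Q) x
      simp only [Function.comp_apply, hc₂] at this
      rw [← map_sub]
      exact this
    have k₃ := hQ (φ (b P) x)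
    rw [← AlgHom.comp_apply (φ (a P - b P)), ← hφ, sub_add_cancel] at k₃
    show q₂ (t₂ x) - q₁ (t₁ x) ∈ Q.asIdeal
    have := add_mem (sub_mem k₂ k₁) k₃
    convert this using 1
    ring
  -- glue
  let j : (A ⧸ (I₁ ⊓ I₂)) →ₐ[A] (A ⧸ I₁) × (A ⧸ I₂) :=
    (Ideal.Quotient.factorₐ A inf_le_left).prod (Ideal.Quotient.factorₐ A inf_le_right)
  have hj : Function.Injective j := by
    rw [injective_iff_map_eq_zero]
    intro z hz
    obtain ⟨z, rfl⟩ := Ideal.Quotient.mk_surjective z
    exact Ideal.Quotient.eq_zero_iff_mem.2 ⟨Ideal.Quotient.eq_zero_iff_mem.1 (congrArg Prod.fst hz),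
      Ideal.Quotient.eq_zero_iff_mem.1 (congrArg Prod.snd hz)⟩
  have hrange : ∀ z, (t₁.prod t₂) z ∈ j.range := fun z => by
    obtain ⟨u, hu⟩ := Ideal.Quotient.mk_surjective (t₁ z)
    obtain ⟨v, hv⟩ := Ideal.Quotient.mk_surjective (t₂ z)
    have huv : u - v ∈ I₁ ⊔ I₂ := by
      rw [← Ideal.Quotient.eq]
      have := congrArg (fun k : B →ₐ[A] A ⧸ K => k z) hagree
      simp only [AlgHom.comp_apply, ← hu, ← hv] at this
      exact this
    obtain ⟨i₁, hi₁, i₂, hi₂, h12⟩ := Submodule.mem_sup.1 huv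
    refine ⟨Ideal.Quotient.mk _ (u - i₁), Prod.ext ?_ ?_⟩
    · show Ideal.Quotient.mk I₁ (u - i₁) = t₁ z
      rw [← hu, Ideal.Quotient.eq, sub_sub_cancel_left]
      exact neg_mem hi₁
    · show Ideal.Quotient.mk I₂ (u - i₁) = t₂ z
      rw [← hv, Ideal.Quotient.eq, show u - i₁ - v = i₂ by linear_combination -h12]
      exact hi₂
  exact hempty.elim' ((Ideal.Quotient.factorₐ A hI12).comp
    ((AlgEquiv.ofInjective j hj).symm.toAlgHom.comp ((t₁.prod t₂).codRestrict j.range hrange)))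

end GrothLib.AicH2
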