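import Groth.Agent.Lib.AicH2.Section
import Groth.Agent.Lib.TorsorFin18.Basic
import Groth.Agent.Lib.EtSec.Basic

/-!
# `H¹` with finite constant coefficients over an absolutely integrally closed ring
-/

set_option autoImplicit false
set_option backward.isDefEq.respectTransparency false
set_option backward.isDefEq.respectTransparency.types false
set_option linter.style.haveILetI false
set_option linter.all false

universe u

open CategoryTheory CategoryTheory.Limits CategoryTheory.Abelian AlgebraicGeometry Opposite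
open GrothLib.EtSite GrothLib.EtColim GrothLib.EtTrace21 GrothLib.EtRepSh GrothLib.FLCRep18 GrothLib.TorsorFin18

noncomputable section

namespace GrothLib.AicH2

variable {X : Scheme.{u}} {M : Type} [AddCommGroup M] [Finite M]

theorem exists_section_of_action [IsAffine X] (hX : Curves.IsAIC Γ(X, ⊤)) {T : Scheme.{u}} (v : T ⟶ X)
    [Etale v] [IsFinite v] [Surjective v] (ρ : M → (T ⟶ T)) (hρv : ∀ m, ρ m ≫ v = v)
    (hρ : ∀ x y, ρ (x + y) = ρ x ≫ ρ y)
    (htrans : ∀ (K : Type u) [Field K] [IsAlgClosed K] (z₁ z₂ : Spec (CommRingCat.of K) ⟶ T),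
      z₁ ≫ v = z₂ ≫ v → ∃ m, z₂ = z₁ ≫ ρ m) :
    ∃ σ : X ⟶ T, σ ≫ v = 𝟙 X := by
  haveI : IsAffine T := isAffine_of_isAffineHom v
  letI : Algebra Γ(X, ⊤) Γ(T, ⊤) := v.appTop.hom.toAlgebra
  haveI : Algebra.Etale Γ(X, ⊤) Γ(T, ⊤) :=
    (HasRingHomProperty.iff_of_isAffine (P := @Etale)).1 ‹Etale v›
  haveI : Module.Finite Γ(X, ⊤) Γ(T, ⊤) :=
    ((HasAffineProperty.iff_of_isAffine (P := @IsFinite)).1 ‹IsFinite v›).2
  have hsurj : Function.Surjective (PrimeSpectrum.comap (algebraMap Γ(X, ⊤) Γ(T, ⊤))) := fun P => by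
    obtain ⟨y, hy⟩ := v.surjective (X.isoSpec.inv.base P)
    refine ⟨T.isoSpec.hom.base y, ?_⟩
    have := congrArg (fun a => a.base y) (Scheme.isoSpec_hom_naturality v)
    exact this.trans ((congrArg X.isoSpec.hom.base hy).trans
      (congrArg (fun a => a.base P) X.isoSpec.inv_hom_id))
  let φ : M → (Γ(T, ⊤) →ₐ[Γ(X, ⊤)] Γ(T, ⊤)) := fun m =>
    { (ρ m).appTop.hom with
      commutes' := fun r => by
        show (v.appTop ≫ (ρ m).appTop).hom r = v.appTop.hom r
        rw [← Scheme.Hom.comp_appTop, hρv m] }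
  have hφ : ∀ x y, φ (x + y) = (φ x).comp (φ y) := fun x y => AlgHom.ext fun b => by
    show (ρ (x + y)).appTop.hom b = ((ρ y).appTop ≫ (ρ x).appTop).hom b
    rw [← Scheme.Hom.comp_appTop, hρ]
  obtain ⟨t⟩ := exists_algHom hX hsurj φ hφ (fun K _ _ _ t₁ t₂ => by
    obtain ⟨m, hm⟩ := htrans K (Spec.map (CommRingCat.ofHom t₁.toRingHom) ≫ T.isoSpec.inv)
      (Spec.map (CommRingCat.ofHom t₂.toRingHom) ≫ T.isoSpec.inv) (by
        rw [Category.assoc, Category.assoc, ← Scheme.isoSpec_inv_naturality, ← Category.assoc,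
          ← Category.assoc, ← Spec.map_comp, ← Spec.map_comp]
        congr 2
        exact CommRingCat.hom_ext (t₁.comp_algebraMap.trans t₂.comp_algebraMap.symm))
    refine ⟨m, ?_⟩
    rw [Category.assoc, ← Scheme.isoSpec_inv_naturality, ← Category.assoc, cancel_mono,
      ← Spec.map_comp] at hm
    exact AlgHom.coe_ringHom_injective (congrArg CommRingCat.Hom.hom (Spec.map_injective hm)))
  refine ⟨X.isoSpec.hom ≫ Spec.map (CommRingCat.ofHom t.toRingHom) ≫ T.isoSpec.inv, ?_⟩
  rw [Category.assoc, Category.assoc, ← Scheme.isoSpec_inv_naturality, ← Category.assoc (Spec.map _),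
    ← Spec.map_comp]
  have : v.appTop ≫ CommRingCat.ofHom t.toRingHom = 𝟙 _ := CommRingCat.hom_ext t.comp_algebraMap
  rw [this, Spec.map_id, Category.id_comp, Iso.hom_inv_id]


theorem exists_section_lifts [IsAffine X] (hX : Curves.IsAIC Γ(X, ⊤)) {A B : EtCoh.Ab X} (g : A ⟶ B)
    (s : EtCoh.sect B (EtCoh.top X)) (f : EtCoh.const X M ⟶ A) (w : f ≫ g = 0)
    (hS : (ShortComplex.mk f g w).ShortExact) (V : X.Etale) [IsFinite V.hom] [Surjective V.hom]
    (e : lifts g s ≅ repSheaf V) : ∃ σ : X ⟶ V.left, σ ≫ V.hom = 𝟙 X := by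
  let P₀ : X.Etaleᵒᵖ ⥤ AddCommGrpCat.{u + 1} := (Functor.const _).obj (AddCommGrpCat.of (ULift.{u + 1} M))
  let σ₀ : P₀ ⟶ (EtCoh.const X M).obj := toSheafify X.smallEtaleTopology P₀
  have hg0 : ∀ (W : X.Etale) (c : EtCoh.sect (EtCoh.const X M) W), g.hom.app (op W) (f.hom.app (op W) c) = 0 :=
    fun W c => congr($(congrArg (fun a : EtCoh.const X M ⟶ B => a.hom.app (op W)) w) c)
  -- points of `V` as lifts
  let pt : ∀ {W : X.Etale}, (W ⟶ V) → (liftsPsh g s).obj (op W) := fun {W} k => e.inv.hom.app (op W) (ULift.up k)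
  have pt_map : ∀ {W W' : X.Etale} (h : W' ⟶ W) (k : W ⟶ V), (pt (h ≫ k)).1 = A.obj.map h.op (pt k).1 :=
    fun {W W'} h k => congrArg Subtype.val (NatTrans.naturality_apply e.inv.hom h.op (ULift.up k : (repPsh V).obj (op W)))
  have pt_inj : ∀ {W : X.Etale} (k k' : W ⟶ V), (pt k).1 = (pt k').1 → k = k' := fun {W} k k' h => by
    have h' : pt k = pt k' := Subtype.ext h
    have hid : ∀ a : W ⟶ V, e.hom.hom.app (op W) (pt a) = ULift.up a := fun a =>
      congr($(congrArg (fun b : repSheaf V ⟶ repSheaf V => b.hom.app (op W)) e.inv_hom_id) (ULift.up a))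
    have := congrArg (fun z => (e.hom.hom.app (op W) z).down) h'
    simpa [hid] using this
  let mv : ∀ W : X.Etale, M → EtCoh.sect A W := fun W m => f.hom.app (op W) (σ₀.app (op W) (ULift.up m))
  have mv_map : ∀ {W W' : X.Etale} (h : W' ⟶ W) (m : M), A.obj.map h.op (mv W m) = mv W' m := fun {W W'} h m => by
    show A.obj.map h.op (f.hom.app (op W) _) = _
    rw [← NatTrans.naturality_apply f.hom, ← NatTrans.naturality_apply σ₀]
    rfl
  have mv_add : ∀ (W : X.Etale) (x y : M), mv W (x + y) = mv W x + mv W y := fun W x y => by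
    show f.hom.app (op W) (σ₀.app (op W) (ULift.up (x + y))) = _
    rw [← map_add (f.hom.app (op W)).hom, ← map_add (σ₀.app (op W)).hom]
    rfl
  let tr : M → (liftsPsh g s).obj (op V) := fun m => ⟨(pt (𝟙 V)).1 + mv V m, by
    rw [map_add]
    erw [hg0, add_zero]
    exact (pt (𝟙 V)).2⟩
  let τ : M → (V ⟶ V) := fun m => (e.hom.hom.app (op V) (tr m)).down
  have pt_τ : ∀ m, (pt (τ m)).1 = (pt (𝟙 V)).1 + mv V m := fun m => by
    show (e.inv.hom.app (op V) (e.hom.hom.app (op V) (tr m))).1 = _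
    have hid : e.inv.hom.app (op V) (e.hom.hom.app (op V) (tr m)) = tr m :=
      congr($(congrArg (fun a : lifts g s ⟶ lifts g s => a.hom.app (op V)) e.hom_inv_id) (tr m))
    rw [hid]
  have pt_comp : ∀ {W : X.Etale} (k : W ⟶ V) (m : M), (pt (k ≫ τ m)).1 = (pt k).1 + mv W m := fun {W} k m => by
    rw [pt_map, pt_τ, map_add, mv_map]
    congr 1
    rw [← pt_map, Category.comp_id]
  have τ_add : ∀ x y, τ (x + y) = τ x ≫ τ y := fun x y => pt_inj _ _ (by
    rw [pt_comp, pt_τ, pt_τ, mv_add, add_assoc])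
  haveI : Etale V.hom := V.prop
  -- transitivity on geometric points
  have htrans : ∀ (K : Type u) [Field K] [IsAlgClosed K] (z₁ z₂ : Spec (CommRingCat.of K) ⟶ V.left),
      z₁ ≫ V.hom = z₂ ≫ V.hom → ∃ m, z₂ = z₁ ≫ (τ m).left := by
    intro K _ _ z₁ z₂ hz
    haveI : Etale (pullback.fst V.hom V.hom ≫ V.hom) := inferInstance
    let W : X.Etale := Scheme.Etale.mk (pullback.fst V.hom V.hom ≫ V.hom)
    let r₁ : W ⟶ V := MorphismProperty.Over.homMk (pullback.fst V.hom V.hom) rfl
    let r₂ : W ⟶ V := MorphismProperty.Over.homMk (pullback.snd V.hom V.hom) pullback.condition.symm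
    let z : Spec (CommRingCat.of K) ⟶ W.left := pullback.lift z₁ z₂ hz
    obtain ⟨c, hc⟩ := exists_lift_sect hS ((pt r₂).1 - (pt r₁).1 : EtCoh.sect A W) (by
      show g.hom.app (op W) _ = 0
      rw [map_sub, sub_eq_zero]
      exact (pt r₂).2.trans (pt r₁).2.symm)
    obtain ⟨W', k, w', ⟨m₀, hm₀⟩, hw'⟩ := (GrothLib.EtSite.mem_topology_iff _).1
      (Presheaf.imageSieve_mem X.smallEtaleTopology σ₀ (U := op W) c) (z.base default)
    haveI : Etale (k.left ≫ W.hom) := by rw [MorphismProperty.Over.w k]; exact W'.prop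
    haveI : Etale k.left := Etale.of_comp k.left W.hom
    obtain ⟨q, hq, -⟩ := GrothLib.EtSec.exists_lift k.left z w' hw'
    refine ⟨m₀.down, ?_⟩
    have key : k ≫ r₂ = (k ≫ r₁) ≫ τ m₀.down := pt_inj _ _ (by
      rw [pt_comp, pt_map, pt_map]
      have h1 : f.hom.app (op W') ((EtCoh.const X M).obj.map k.op c) =
          A.obj.map k.op ((pt r₂).1 - (pt r₁).1) := by
        rw [NatTrans.naturality_apply f.hom]
        exact congrArg _ hc
      rw [← hm₀, map_sub, eq_sub_iff_add_eq] at h1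
      rw [← h1, add_comm]
      rfl)
    have hl : k.left ≫ pullback.snd V.hom V.hom = k.left ≫ pullback.fst V.hom V.hom ≫ (τ m₀.down).left := by
      have := congrArg (fun a : W' ⟶ V => a.left) key
      exact this.trans (Category.assoc _ _ _)
    have e2 := congrArg (fun a => q ≫ a) hl
    simp only [← Category.assoc, hq] at e2
    rw [pullback.lift_fst, pullback.lift_snd] at e2
    exact e2
  exact exists_section_of_action hX V.hom (fun m => (τ m).left) (fun m => MorphismProperty.Over.w (τ m))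
    (fun x y => by rw [τ_add]; rfl) htrans

/-- `H¹(X, M) = 0` for `X` affine with absolutely integrally closed ring. -/
theorem subsingleton_H_one [IsAffine X] (hX : Curves.IsAIC Γ(X, ⊤)) (M : Type) [AddCommGroup M] [Finite M] :
    Subsingleton (EtCoh.H X (EtCoh.const X M) 1) := by
  suffices hx : ∀ x : EtCoh.H X (EtCoh.const X M) 1, x = 0 from ⟨fun a b => (hx a).trans (hx b).symm⟩
  intro x
  have hS := injS_shortExact (EtCoh.const X M)
  haveI : Injective (injS (EtCoh.const X M)).X₂ :=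
    inferInstanceAs (Injective (Injective.under (EtCoh.const X M)))
  obtain ⟨c₀, hc₀⟩ := Ext.covariant_sequence_exact₁ _ hS x (Ext.eq_zero_of_injective _) rfl
  subst hc₀
  obtain ⟨φ, rfl⟩ := (Ext.mk₀_bijective _ _).2 c₀
  let s : EtCoh.sect (injS (EtCoh.const X M)).X₃ (EtCoh.top X) := evOne _ φ
  obtain ⟨V, hV, hVs, ⟨e⟩⟩ := exists_finite_lifts (injS (EtCoh.const X M)).g s
    (injS (EtCoh.const X M)).f (injS (EtCoh.const X M)).zero hS
  obtain ⟨σ, hσ⟩ := exists_section_lifts hX (injS (EtCoh.const X M)).g s (injS (EtCoh.const X M)).f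
    (injS (EtCoh.const X M)).zero hS V e
  let m : EtCoh.top X ⟶ V := MorphismProperty.Over.homMk σ hσ
  let t := e.inv.hom.app (op (EtCoh.top X)) (ULift.up m : (repPsh V).obj (op (EtCoh.top X)))
  obtain ⟨ψ, hψ⟩ := (bijective_evOne (injS (EtCoh.const X M)).X₂).2 (Subtype.val t)
  have hψφ : ψ ≫ (injS (EtCoh.const X M)).g = φ := by
    refine (bijective_evOne _).1 ?_
    show (injS (EtCoh.const X M)).g.hom.app (op (EtCoh.top X)) (evOne _ ψ) = s
    rw [hψ]
    refine (Subtype.prop t).trans ?_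
    show resT _ (EtCoh.top X) s = s
    rw [resT, show toT (EtCoh.top X) = 𝟙 _ from (EtCore.topIsTerminal X).hom_ext _ _, op_id,
      CategoryTheory.Functor.map_id]
    rfl
  rw [← hψφ, ← Ext.mk₀_comp_mk₀, Ext.comp_assoc_of_second_deg_zero, hS.comp_extClass, Ext.comp_zero]

end GrothLib.AicH2
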